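import Groth.Agent.FlatDepth.Fibres
import Groth.Agent.SerreLib.Normal
import Groth.Agent.RegIdealLib.Immersion
import Groth.Agent.ASp.ChartDim
import Groth.Agent.ASp.NoethFibre
import Groth.Agent.S5756
import Groth.Agent.S5755
import Groth.Prelude.Def_AlgSpSub
import Groth.Prelude.Def_BlowUp2

/-!
# Serre conditions on effective Cartier divisors of algebraic spaces
-/

set_option autoImplicit false
set_option linter.style.haveILetI false
set_option backward.isDefEq.respectTransparency false
set_option maxHeartbeats 800000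

universe u

open CategoryTheory CategoryTheory.Limits AlgebraicGeometry Opposite IsLocalRing

namespace Groth.Agent.AlgSpSk

open FlatDepth

theorem depth_stalk_eq_of_etale {A B : Scheme.{u}} (f : A ⟶ B) [Etale f] [IsLocallyNoetherian B] (a : A) :
    LocCoh.depth (A.presheaf.stalk a) (A.presheaf.stalk a) =
      LocCoh.depth (B.presheaf.stalk (f a)) (B.presheaf.stalk (f a)) := by
  haveI : IsLocallyNoetherian A := LocallyOfFiniteType.isLocallyNoetherian f
  algebraize [(f.stalkMap a).hom]
  haveI : IsLocalHom (algebraMap (B.presheaf.stalk (f a)) (A.presheaf.stalk a)) :=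
    inferInstanceAs <| IsLocalHom (f.stalkMap a).hom
  haveI : Algebra.EssFiniteType (B.presheaf.stalk (f a)) (A.presheaf.stalk a) := by
    rw [← RingHom.essFiniteType_algebraMap, RingHom.algebraMap_toAlgebra]
    exact LocallyOfFiniteType.stalkMap f a
  haveI : Algebra.FormallyUnramified (B.presheaf.stalk (f a)) (A.presheaf.stalk a) := by
    rw [← RingHom.formallyUnramified_algebraMap, RingHom.algebraMap_toAlgebra]
    exact FormallyUnramified.stalkMap f a
  haveI : Module.Flat (B.presheaf.stalk (f a)) (A.presheaf.stalk a) := Flat.stalkMap f a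
  exact Depth.depth_eq_of_map_maximalIdeal (R := B.presheaf.stalk (f a)) (S := A.presheaf.stalk a)
    Algebra.FormallyUnramified.map_maximalIdeal

variable {S : Scheme.{u}}

/-- The condition `(S_k)` transfers between etale charts. -/
theorem skLocal_transfer {X : AlgSp.Sp S} {U V : Over S} [IsLocallyNoetherian U.left] [IsLocallyNoetherian V.left]
    {a : (AlgSp.yon S).obj U ⟶ X} {b : (AlgSp.yon S).obj V ⟶ X} (ha : AlgSp.RepWith @Etale a)
    (hb : AlgSp.RepWith @Etale b) (has : AlgSp.RepWith @Surjective a) {k : ℕ}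
    (h : ∀ x : U.left, SkLocal k (U.left.presheaf.stalk x)) (v : V.left) : SkLocal k (V.left.presheaf.stalk v) := by
  obtain ⟨x, hx⟩ := ASp.surjective_ofPt has (AlgSp.Points.ofPt b v)
  obtain ⟨P, t, s, r, ht, hs, -, rfl, rfl⟩ := ASp.exists_common_point ha hb hx
  obtain ⟨_, h'⟩ := h (t.left r)
  refine ⟨inferInstance, ?_⟩
  rw [← depth_stalk_eq_of_etale s.left r, ASp.ringKrullDim_stalk_eq_of_etale s.left r,
    depth_stalk_eq_of_etale t.left r, ← ASp.ringKrullDim_stalk_eq_of_etale t.left r]
  exact h'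

/-- Dividing by a regular element lowers `(S_k)` by one. -/
theorem skLocal_quotient {R : Type u} [CommRing R] [IsLocalRing R] [IsNoetherianRing R] {k : ℕ} (h : SkLocal k R)
    {g : R} (hg : g ∈ nonZeroDivisors R) (hgm : g ∈ maximalIdeal R) :
    SkLocal (k - 1) (R ⧸ Ideal.span {g}) := by
  haveI : Nontrivial (R ⧸ Ideal.span {g}) := Ideal.Quotient.nontrivial_iff.2 fun e =>
    (maximalIdeal.isMaximal R).ne_top (top_le_iff.1 (e.ge.trans ((Ideal.span_singleton_le_iff_mem _).2 hgm)))
  haveI : IsLocalRing (R ⧸ Ideal.span {g}) := IsLocalRing.of_surjective' _ Ideal.Quotient.mk_surjective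
  haveI : IsLocalHom (algebraMap R (R ⧸ Ideal.span {g})) :=
    IsLocalHom.of_surjective (algebraMap R (R ⧸ Ideal.span {g})) Ideal.Quotient.mk_surjective
  obtain ⟨_, h⟩ := h
  obtain ⟨d, e, hd, he, -⟩ := exists_invariants R
  obtain ⟨d', e', hd', he', -⟩ := exists_invariants (R ⧸ Ideal.span {g})
  have hreg : IsSMulRegular R g := fun a b hab => (mul_cancel_left_mem_nonZeroDivisors hg).1 hab
  let q : QuotSMulTop g R ≃ₗ[R] R ⧸ Ideal.span {g} :=
    Submodule.quotEquivOfEq _ _ (by rw [← Submodule.ideal_span_singleton_smul]; simp)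
  have hdep := depth_quotSMulTop (R := R) (M := R) hgm hreg
  rw [Depth.depth_congr q, Groth.Agent.S5756.result R (R ⧸ Ideal.span {g}) (R ⧸ Ideal.span {g}), he, he'] at hdep
  have hdim := ringKrullDim_quotient_succ_le_of_nonZeroDivisor hg
  rw [hd, hd'] at hdim
  have e1 : d' + 1 ≤ d := by exact_mod_cast hdim
  have e2 : e' + 1 = e := by exact_mod_cast hdep
  rw [hd, he] at h
  have hmin : ∀ x y : ℕ, min (x : WithBot ℕ∞) (y : WithBot ℕ∞) = ((min x y : ℕ) : WithBot ℕ∞) :=
    fun x y => (Nat.mono_cast.map_min (a := x) (b := y)).symm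
  rw [hmin] at h
  have e3 : min k d ≤ e := by exact_mod_cast h
  refine ⟨inferInstance, ?_⟩
  rw [hd', he', hmin]
  exact_mod_cast (by omega : min (k - 1) d' ≤ e')

/-- Normal local domains satisfy `(S_2)`. -/
theorem skLocal_two_of_normal (R : Type u) [CommRing R] [IsDomain R] [IsLocalRing R] [IsNoetherianRing R]
    [IsIntegrallyClosed R] : SkLocal 2 R := by
  obtain ⟨d, e, hd, he, -⟩ := exists_invariants R
  have h2 : 1 < d → 2 ≤ e := fun h => by
    have := SerreLib.two_le_depth_of_normal (A := R) (by rw [hd]; exact_mod_cast h)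
    rw [he] at this
    exact_mod_cast this
  have h1 : 1 ≤ d → 1 ≤ e := fun h => by
    by_contra hcon
    have h0 : LocCoh.depth R R = 0 := by rw [he, show e = 0 by omega]; rfl
    have := ringKrullDim_eq_zero_of_isField ((Groth.Agent.S5755.result R).1 h0)
    rw [hd] at this
    have : d = 0 := by exact_mod_cast this
    omega
  refine ⟨inferInstance, ?_⟩
  rw [hd, he]
  have hmin : min ((2 : ℕ) : WithBot ℕ∞) (d : WithBot ℕ∞) = ((min 2 d : ℕ) : WithBot ℕ∞) :=
    (Nat.mono_cast.map_min (a := 2) (b := d)).symm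
  rw [hmin]
  exact_mod_cast (by rcases Nat.lt_or_ge 1 d with h | h <;> omega : min 2 d ≤ e)

/-- An effective Cartier subscheme of an `(S_k)` scheme is `(S_{k-1})`. -/
theorem skLocal_subscheme {X : Scheme.{u}} [IsLocallyNoetherian X] (D : X.IdealSheafData)
    (hD : BlowUp.IsEffCartierIdeal D) (w : D.subscheme) {k : ℕ}
    (h : SkLocal k (X.presheaf.stalk (D.subschemeι w))) : SkLocal (k - 1) (D.subscheme.presheaf.stalk w) := by
  obtain ⟨⟨V, hV⟩, hwV, g, hg, hI⟩ := hD (D.subschemeι w)
  let γ := (X.presheaf.germ V (D.subschemeι w) hwV).hom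
  have hk : RingHom.ker (D.subschemeι.stalkMap w).hom = Ideal.span {γ g} := by
    rw [RegIdealLib.ker_stalkMap D.subschemeι hV
      (IsZariskiLocalAtTarget.restrict (P := @IsClosedImmersion) (inferInstanceAs (IsClosedImmersion D.subschemeι)) V) w hwV,
      Scheme.IdealSheafData.ker_subschemeι_app D ⟨V, hV⟩, hI, Ideal.map_span, Set.image_singleton]
  have hgn : γ g ∈ nonZeroDivisors (X.presheaf.stalk (D.subschemeι w)) := by
    letI : Algebra Γ(X, V) (X.presheaf.stalk (D.subschemeι w)) := TopCat.Presheaf.algebra_section_stalk X.presheaf ⟨_, hwV⟩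
    haveI := hV.isLocalization_stalk ⟨_, hwV⟩
    exact IsLocalization.map_nonZeroDivisors_le (hV.primeIdealOf ⟨_, hwV⟩).asIdeal.primeCompl _ ⟨g, hg, rfl⟩
  have hgm : γ g ∈ maximalIdeal (X.presheaf.stalk (D.subschemeι w)) :=
    IsLocalRing.le_maximalIdeal (RingHom.ker_ne_top (D.subschemeι.stalkMap w).hom) (hk ▸ Ideal.mem_span_singleton_self _)
  exact skLocal_of_ringEquiv ((Ideal.quotEquivOfEq hk.symm).trans
    (RingHom.quotientKerEquivOfSurjective (D.subschemeι.stalkMap_surjective w))) (skLocal_quotient h hgn hgm)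

/-- An effective Cartier divisor on an `(S_k)` space is `(S_{k-1})`. -/
theorem etaleLocally_skLocal_cartier {X D : AlgSp.Space S} {k : ℕ}
    (hX : AlgSp.EtaleLocally (fun U => IsLocallyNoetherian U ∧ ∀ x : ↥U, SkLocal k (U.presheaf.stalk x)) X.obj)
    (i : D ⟶ X) (hD : AlgSp.IsEffCartierSub i.hom) :
    AlgSp.EtaleLocally (fun V => IsLocallyNoetherian V ∧ ∀ v : ↥V, SkLocal (k - 1) (V.presheaf.stalk v)) D.obj := by
  obtain ⟨U, p, hp, hps, hUN, hU⟩ := hX
  obtain ⟨-, V, φ, I, fst, hφ, hφs, sq, hI⟩ := hD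
  have hN : AlgSp.IsLocNoethSp X.obj := ⟨U, p, hp, hps, hUN⟩
  haveI : IsLocallyNoetherian U.left := hUN
  haveI : IsLocallyNoetherian V.left := ASp.isLocallyNoetherian_of_chart hN hφ
  haveI : IsLocallyNoetherian I.subscheme := LocallyOfFiniteType.isLocallyNoetherian I.subschemeι
  exact ⟨_, fst, ASp.repWith_of_isPullback sq.flip hφ, ASp.repWith_of_isPullback sq.flip hφs,
    inferInstanceAs (IsLocallyNoetherian I.subscheme),
    fun v => skLocal_subscheme I hI v (skLocal_transfer hp hφ hps hU (I.subschemeι v))⟩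

end Groth.Agent.AlgSpSk
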